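import Cfsg.Agent.H3.ClassNumber.Weight
import Cfsg.Agent.S1496

/-!
# An elementary exponential bound for the class number of permutation groups
-/

set_option autoImplicit false

open Equiv

namespace Cfsg.Agent.H3.ClassNumber

universe u

/-- Classes of elements all of whose prime divisors are at least `q`. -/
def bigClasses (q : ℕ) (G : Type u) [Group G] : Set (ConjClasses G) :=
  ConjClasses.mk '' {g | ∀ r : ℕ, r.Prime → r ∣ orderOf g → q ≤ r}

theorem exists_parts {G : Type u} [Group G] [Finite G] (g : G) (p : ℕ) [hp : Fact p.Prime] :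
    ∃ x y : G, Commute x y ∧ x * y = g ∧ (∃ a, orderOf x = p ^ a) ∧ ¬ p ∣ orderOf y ∧
      orderOf y ∣ orderOf g := by
  obtain ⟨n, hn⟩ : ∃ n, orderOf g = n := ⟨_, rfl⟩
  have hn0 : n ≠ 0 := hn ▸ (orderOf_pos g).ne'
  let a := n.factorization p
  let b := n / p ^ a
  have hab : p ^ a * b = n := Nat.ordProj_mul_ordCompl_eq_self n p
  have hco : (p ^ a).Coprime b := (Nat.coprime_ordCompl hp.out hn0).pow_left _
  obtain ⟨k, hk1, hk0⟩ := Nat.chineseRemainder hco 1 0
  obtain ⟨l, hl0, hl1⟩ := Nat.chineseRemainder hco 0 1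
  refine ⟨g ^ k, g ^ l, (Commute.refl g).pow_pow k l, ?_, ?_, ?_, orderOf_pow_dvd l⟩
  · rw [← pow_add]
    conv_rhs => rw [← pow_one g]
    rw [pow_eq_pow_iff_modEq, hn, ← hab]
    exact (Nat.modEq_and_modEq_iff_modEq_mul hco).1
      ⟨by simpa using hk1.add hl0, by simpa using hk0.add hl1⟩
  · have : orderOf (g ^ k) ∣ p ^ a := by
      rw [orderOf_dvd_iff_pow_eq_one, ← pow_mul, ← orderOf_dvd_iff_pow_eq_one, hn, ← hab, mul_comm k]
      exact Nat.mul_dvd_mul_left _ (Nat.modEq_zero_iff_dvd.1 hk0)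
    obtain ⟨i, _, hi⟩ := (Nat.dvd_prime_pow hp.out).1 this
    exact ⟨i, hi⟩
  · have : orderOf (g ^ l) ∣ b := by
      rw [orderOf_dvd_iff_pow_eq_one, ← pow_mul, ← orderOf_dvd_iff_pow_eq_one, hn, ← hab]
      exact mul_dvd_mul_right (Nat.modEq_zero_iff_dvd.1 hl0) _
    exact fun h => Nat.not_dvd_ordCompl hp.out hn0 (h.trans this)

variable {X : Type} [Finite X]

/-- The action of the centraliser of `x` on the cycles of `x`. -/
noncomputable def cycleHom (G : Subgroup (Perm X)) (x : G) :
    (Subgroup.centralizer ({x} : Set G)) →* Perm (Quotient (Perm.SameCycle.setoid (x : Perm X))) :=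
  have key : ∀ (h : Subgroup.centralizer ({x} : Set G)) (i : ℤ) (a : X),
      ((h.1 : G) : Perm X) (((x : Perm X) ^ i) a) = ((x : Perm X) ^ i) (((h.1 : G) : Perm X) a) :=
    fun h i a => by
      have e : Commute (h.1 : G) x := Subgroup.mem_centralizer_singleton_iff.1 h.2
      have e' := (e.map G.subtype).zpow_right i
      simp only [Subgroup.coe_subtype] at e'
      rw [← Perm.mul_apply, e'.eq, Perm.mul_apply]
  { toFun := fun h =>
      { toFun := Quotient.map ((h.1 : G) : Perm X) fun a b ⟨i, hi⟩ => ⟨i, by rw [← key, hi]⟩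
        invFun := Quotient.map (((h⁻¹).1 : G) : Perm X) fun a b ⟨i, hi⟩ =>
          ⟨i, by rw [← key, hi]⟩
        left_inv := fun t => by
          induction t using Quotient.inductionOn with | h a =>
          change Quotient.mk _ _ = _
          simp
        right_inv := fun t => by
          induction t using Quotient.inductionOn with | h a =>
          change Quotient.mk _ _ = _
          simp }
    map_one' := Equiv.ext fun t => by
      induction t using Quotient.inductionOn with | h a => rfl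
    map_mul' := fun h k => Equiv.ext fun t => by
      induction t using Quotient.inductionOn with | h a => rfl }

theorem cycleHom_mk (G : Subgroup (Perm X)) (x : G) (h : Subgroup.centralizer ({x} : Set G))
    (a : X) : cycleHom G x h (Quotient.mk _ a) = Quotient.mk _ (((h.1 : G) : Perm X) a) := rfl

theorem isPGroup_ker_cycleHom (G : Subgroup (Perm X)) (x : G) (p : ℕ) [Fact p.Prime]
    (hx : ∃ a, orderOf x = p ^ a) : IsPGroup p (cycleHom G x).ker := by
  obtain ⟨e, he⟩ := hx
  intro k
  refine ⟨e, Subtype.ext (Subtype.ext (Subtype.ext (Equiv.ext fun a => ?_)))⟩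
  simp only [SubmonoidClass.coe_pow, OneMemClass.coe_one, Perm.one_apply]
  have hk := congrArg (fun σ : Perm _ => σ (Quotient.mk _ a)) (MonoidHom.mem_ker.1 k.2)
  simp only [cycleHom_mk, Perm.one_apply] at hk
  obtain ⟨i, hi⟩ := Quotient.exact hk.symm
  have hc : Commute ((k.1.1 : G) : Perm X) ((x : Perm X) ^ i) :=
    ((Commute.map (Subgroup.mem_centralizer_singleton_iff.1 k.1.2) G.subtype)).zpow_right i
  have : ∀ n : ℕ, (((k.1.1 : G) : Perm X) ^ n) a = (((x : Perm X) ^ i) ^ n) a := fun n => by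
    induction n with
    | zero => rfl
    | succ n ih =>
      rw [pow_succ, Perm.mul_apply, ← hi, ← Perm.mul_apply, (hc.pow_left n).eq, Perm.mul_apply, ih,
        ← Perm.mul_apply, ← pow_succ']
  rw [this, ← zpow_natCast, ← zpow_mul, mul_comm, zpow_mul, zpow_natCast,
    ← SubmonoidClass.coe_pow, ← he, pow_orderOf_eq_one]
  simp

theorem isConj_of_map {C H : Type u} [Group C] [Finite C] [Group H] (f : C →* H) (p : ℕ)
    [hp : Fact p.Prime] (hK : IsPGroup p f.ker) {y y' : C} (hy : ¬ p ∣ orderOf y)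
    (hy' : ¬ p ∣ orderOf y') (h : IsConj (f y) (f y')) (hsurj : Function.Surjective f) :
    IsConj y y' := by
  obtain ⟨u, hu⟩ := isConj_iff.1 h
  obtain ⟨c, rfl⟩ := hsurj u
  have hcyop : ∀ z : C, ¬ p ∣ orderOf z → (orderOf z).Coprime (Nat.card f.ker) := fun z hz => by
    obtain ⟨e, he⟩ := hK.exists_card_eq
    rw [he]
    exact (((Nat.Prime.coprime_iff_not_dvd hp.out).2 hz).symm).pow_right e
  have hz : ¬ p ∣ orderOf (c⁻¹ * y' * c) := by
    rw [show orderOf (c⁻¹ * y' * c) = orderOf y' from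
      orderOf_injective (MulAut.conj c⁻¹).toMonoidHom (MulAut.conj c⁻¹).injective y' |> fun e => by
        simpa using e]
    exact hy'
  have hh : c⁻¹ * y' * c * y⁻¹ ∈ f.ker := by
    rw [MonoidHom.mem_ker, map_mul, map_mul, map_mul, ← hu, map_inv, map_inv]
    group
  obtain ⟨x, -, k, hk, hky, e⟩ := Cfsg.Agent.S1496.result f.ker y
    (by rw [Subgroup.normalizer_eq_top]; trivial) (hcyop y hy) _ hh
  rw [show c⁻¹ * y' * c * y⁻¹ * y = c⁻¹ * y' * c by group] at e
  have hky' : Commute k y := hky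
  have hord : ¬ p ∣ orderOf (k * y) := by
    rw [← e, show x * (c⁻¹ * y' * c) * x⁻¹ = MulAut.conj x (c⁻¹ * y' * c) from rfl,
      show MulAut.conj x (c⁻¹ * y' * c) = (MulAut.conj x).toMonoidHom (c⁻¹ * y' * c) from rfl,
      orderOf_injective _ (MulAut.conj x).injective]
    exact hz
  have hk1 : k = 1 := by
    rw [← orderOf_eq_one_iff]
    have h1 : orderOf k ∣ orderOf (k * y) * orderOf y := by
      rw [orderOf_dvd_iff_pow_eq_one]
      have : (k * y) ^ (orderOf (k * y) * orderOf y) = 1 := by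
        rw [pow_mul, pow_orderOf_eq_one, one_pow]
      rwa [hky'.mul_pow, mul_comm (orderOf (k * y)) (orderOf y), pow_mul y, pow_orderOf_eq_one,
        one_pow, mul_one, mul_comm] at this
    have h2 : orderOf k ∣ Nat.card f.ker := Subgroup.orderOf_dvd_natCard _ hk
    exact Nat.dvd_one.1 (((hcyop _ hord).mul_left (hcyop y hy)) ▸ Nat.dvd_gcd h1 h2)
  rw [hk1, one_mul] at e
  exact isConj_iff.2 ⟨c * x⁻¹, by nth_rewrite 1 [← e]; group⟩

/-- The base of the exponential bound for elements with prime divisors at least `q`. -/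
noncomputable def base (q : ℕ) : ℝ := if q ≤ 2 then 5 else 5 / 2 + 4 / q

theorem base_eq {q : ℕ} (h : 3 ≤ q) : base q = 5 / 2 + 4 / q := by
  rw [base, if_neg (by omega)]

theorem base_bounds (q : ℕ) : 1 ≤ base q ∧ base (q + 1) ≤ base q := by
  unfold base
  have h4 : ∀ m : ℕ, (0 : ℝ) ≤ 4 / m := fun m => by positivity
  constructor
  · split_ifs
    · norm_num
    · linarith [h4 q]
  · split_ifs with h1 h2 h2
    · exact le_rfl
    · omega
    · have : (3 : ℝ) ≤ ((q + 1 : ℕ) : ℝ) := by exact_mod_cast (by omega : 3 ≤ q + 1)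
      have : (4 : ℝ) / ((q + 1 : ℕ) : ℝ) ≤ 4 / 3 := by gcongr
      linarith
    · have hq : (0 : ℝ) < q := by exact_mod_cast (by omega : 0 < q)
      have : (4 : ℝ) / ((q + 1 : ℕ) : ℝ) ≤ 4 / q := by
        gcongr
        exact Nat.le_succ q
      linarith

theorem pow_add_ge {c e : ℝ} (hc : 0 ≤ c) (he : 0 ≤ e) (n : ℕ) :
    c ^ (n + 1) + (n + 1 : ℕ) * c ^ n * e ≤ (c + e) ^ (n + 1) := by
  induction n with
  | zero => simp
  | succ n ih =>
    refine le_trans ?_ ((mul_le_mul_of_nonneg_right ih (by linarith)).trans_eq (pow_succ _ (n + 1)).symm)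
    have h : (c ^ (n + 1) + (n + 1 : ℕ) * c ^ n * e) * (c + e) = c ^ (n + 1 + 1) +
        (n + 1 + 1 : ℕ) * c ^ (n + 1) * e + (n + 1 : ℕ) * c ^ n * (e * e) := by
      push_cast; ring
    rw [h]
    have : (0 : ℝ) ≤ (n + 1 : ℕ) * c ^ n * (e * e) := by positivity
    linarith

theorem arith (p : ℕ) (hp : p.Prime) :
    (base (p + 1)) ^ p + (p - 1 : ℕ) * base (p + 1) ≤ base (p + 1) * base p ^ (p - 1) ∧
      (2 : ℝ) ^ p * base (p + 1) ≤ base p ^ p := by
  rcases hp.eq_two_or_odd with rfl | hodd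
  · norm_num [base]
  obtain ⟨n, rfl⟩ : ∃ n, p = n + 3 := ⟨p - 3, by have := hp.two_le; omega⟩
  have hn : n = 0 ∨ 2 ≤ n := by omega
  obtain ⟨c, hc⟩ : ∃ c : ℝ, base (n + 3 + 1) = c := ⟨_, rfl⟩
  obtain ⟨d, hd⟩ : ∃ d : ℝ, base (n + 3) = d := ⟨_, rfl⟩
  have hcv : c = 5 / 2 + 4 / ((n : ℝ) + 4) := by
    rw [← hc, base_eq (by omega)]; push_cast; ring
  have hdv : d = c + 4 / (((n : ℝ) + 3) * ((n : ℝ) + 4)) := by
    rw [← hd, base_eq (by omega), hcv]; push_cast; field_simp; ring
  have hn0 : (0 : ℝ) ≤ n := n.cast_nonneg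
  have hc52 : (5 : ℝ) / 2 ≤ c := by
    rw [hcv]; linarith [show (0 : ℝ) ≤ 4 / ((n : ℝ) + 4) by positivity]
  have he : (0 : ℝ) ≤ 4 / (((n : ℝ) + 3) * ((n : ℝ) + 4)) := by positivity
  rw [hc, hd]
  constructor
  · have key : (((n : ℝ) + 3) * ((n : ℝ) + 4)) ≤ 4 * c ^ (n + 1) := by
      rcases hn with rfl | hn
      · rw [hcv]; norm_num
      · refine le_trans ?_ (mul_le_mul_of_nonneg_left
          (pow_le_pow_left₀ (by norm_num) hc52 _) (by norm_num))
        clear hodd hp hc hd hcv hdv hn0 hc52 he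
        induction n, hn using Nat.le_induction with
        | base => norm_num
        | succ n hn ih =>
          have : (2 : ℝ) ≤ n := by exact_mod_cast hn
          rw [pow_succ]
          push_cast
          nlinarith
    have h1 := pow_add_ge (show (0 : ℝ) ≤ c by linarith) he (n + 1)
    rw [← hdv] at h1
    have h2 : (1 : ℝ) ≤ c ^ (n + 1) * (4 / (((n : ℝ) + 3) * ((n : ℝ) + 4))) := by
      rw [mul_div, le_div_iff₀ (by positivity), one_mul, mul_comm (c ^ (n + 1))]
      exact key
    have h3 : ((n + 1 + 1 : ℕ) : ℝ) ≤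
        (n + 1 + 1 : ℕ) * c ^ (n + 1) * (4 / (((n : ℝ) + 3) * ((n : ℝ) + 4))) := by
      rw [mul_assoc]
      exact le_mul_of_one_le_right (Nat.cast_nonneg _) h2
    rw [show n + 3 - 1 = n + 1 + 1 by omega, pow_succ' c (n + 2)]
    nlinarith
  · have hcd : c ≤ d := by linarith
    have : (2 : ℝ) ^ (n + 3) ≤ d ^ (n + 2) := by
      rcases hn with rfl | hn
      · rw [hdv, hcv]; norm_num
      · refine le_trans ?_ (pow_le_pow_left₀ (by norm_num) (hc52.trans hcd) _)
        clear hodd hp hc hd hcv hdv hn0 hc52 he hcd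
        induction n, hn using Nat.le_induction with
        | base => norm_num
        | succ n hn ih =>
          rw [show (2 : ℝ) ^ (n + 1 + 3) = 2 ^ (n + 3) * 2 by ring,
            show ((5 : ℝ) / 2) ^ (n + 1 + 2) = (5 / 2) ^ (n + 2) * (5 / 2) by ring]
          have : (0 : ℝ) ≤ (5 / 2) ^ (n + 2) := by positivity
          linarith
    rw [pow_succ' d (n + 2)]
    calc (2 : ℝ) ^ (n + 3) * c ≤ d ^ (n + 2) * d :=
          mul_le_mul this hcd (by linarith) (pow_nonneg (by linarith) _)
      _ = d * d ^ (n + 2) := mul_comm _ _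

theorem ncard_bigClasses_le (j : ℕ) : ∀ (q : ℕ) (X : Type) [Finite X] [Nonempty X]
    (G : Subgroup (Perm X)), Nat.card X + 1 ≤ q + j →
      ((bigClasses q G).ncard : ℝ) ≤ base q ^ (Nat.card X - 1) := by
  induction j with
  | zero =>
    intro q X _ _ G hq
    have : bigClasses q G ⊆ {ConjClasses.mk 1} := by
      rintro _ ⟨g, hg, rfl⟩
      rw [Set.mem_singleton_iff]
      congr 1
      rw [← orderOf_eq_one_iff]
      by_contra hne
      obtain ⟨r, hr, hrd⟩ := Nat.exists_prime_and_dvd hne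
      have h1 : r ∣ (Nat.card X).factorial := by
        classical
        haveI := Fintype.ofFinite X
        rw [Nat.card_eq_fintype_card, ← Fintype.card_perm, ← Nat.card_eq_fintype_card]
        exact (hrd.trans (orderOf_dvd_natCard g)).trans (Subgroup.card_subgroup_dvd_card G)
      have := (Nat.Prime.dvd_factorial hr).1 h1
      have := hg r hr hrd
      omega
    calc ((bigClasses q G).ncard : ℝ) ≤ 1 := by
          exact_mod_cast (Set.ncard_le_ncard this).trans (Set.ncard_singleton _).le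
      _ ≤ _ := one_le_pow₀ (base_bounds q).1
  | succ j ih =>
    intro q X _ _ G hq
    obtain ⟨hb1, hb2⟩ := base_bounds q
    by_cases hqp : q.Prime
    swap
    · have hsub : bigClasses q G ⊆ bigClasses (q + 1) G := by
        rintro _ ⟨g, hg, rfl⟩
        exact ⟨g, fun r hr hd => Nat.lt_of_le_of_ne (hg r hr hd) (fun e => hqp (e ▸ hr)), rfl⟩
      refine le_trans ?_ (le_trans (ih (q + 1) X G (by omega))
        (pow_le_pow_left₀ (zero_le_one.trans (base_bounds (q + 1)).1) hb2 _))
      exact_mod_cast Set.ncard_le_ncard hsub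
    haveI : Fact q.Prime := ⟨hqp⟩
    classical
    haveI := Fintype.ofFinite X
    obtain ⟨P⟩ := (inferInstance : Nonempty (Sylow q G))
    let F : (Σ x : (P : Subgroup G), bigClasses (q + 1) (Subgroup.centralizer ({(x : G)} : Set G))) →
        ConjClasses G := fun u => ConjClasses.mk ((u.1 : G) * ((Quotient.out u.2.1).1 : G))
    have hcover : bigClasses q G ⊆ Set.range F := by
      rintro _ ⟨g, hg, rfl⟩
      obtain ⟨x, y, hxy, rfl, ⟨a, ha⟩, hy, hyd⟩ := exists_parts g q
      obtain ⟨Q, hQ⟩ := (IsPGroup.of_card (n := a) (by rw [Nat.card_zpowers, ha]) :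
        IsPGroup q (Subgroup.zpowers x)).exists_le_sylow
      obtain ⟨t, ht⟩ := MulAction.exists_smul_eq G Q P
      have htx : t * x * t⁻¹ ∈ (P : Subgroup G) := by
        rw [← ht]
        exact Subgroup.smul_mem_pointwise_smul x (MulAut.conj t) _ (hQ (Subgroup.mem_zpowers x))
      have hcy : t * y * t⁻¹ ∈ Subgroup.centralizer ({t * x * t⁻¹} : Set G) := by
        rw [Subgroup.mem_centralizer_singleton_iff]
        calc t * y * t⁻¹ * (t * x * t⁻¹) = t * (y * x) * t⁻¹ := by group
          _ = t * (x * y) * t⁻¹ := by rw [hxy.eq]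
          _ = _ := by group
      have hmem : ConjClasses.mk (⟨_, hcy⟩ : Subgroup.centralizer ({t * x * t⁻¹} : Set G)) ∈
          bigClasses (q + 1) (Subgroup.centralizer ({t * x * t⁻¹} : Set G)) := by
        refine ⟨_, fun r hr hd => ?_, rfl⟩
        rw [← Subgroup.orderOf_coe] at hd
        replace hd : r ∣ orderOf y := by
          rw [← orderOf_injective (MulAut.conj t).toMonoidHom (MulAut.conj t).injective y]
          exact hd
        exact Nat.lt_of_le_of_ne (hg r hr (hd.trans hyd)) (fun e => hy (e ▸ hd))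
      refine ⟨⟨⟨_, htx⟩, ⟨_, hmem⟩⟩, ?_⟩
      change ConjClasses.mk _ = _
      rw [ConjClasses.mk_eq_mk_iff_isConj]
      obtain ⟨h, hh⟩ := isConj_iff.1 (ConjClasses.mk_eq_mk_iff_isConj.1
        (Quotient.out_eq (ConjClasses.mk
          (⟨_, hcy⟩ : Subgroup.centralizer ({t * x * t⁻¹} : Set G)))))
      replace hh := congrArg Subtype.val hh
      simp only [Subgroup.coe_mul, InvMemClass.coe_inv] at hh
      have hhx : (h : G) * (t * x * t⁻¹) * (h : G)⁻¹ = t * x * t⁻¹ := by
        rw [Subgroup.mem_centralizer_singleton_iff.1 h.2, mul_inv_cancel_right]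
      refine isConj_iff.2 ⟨t⁻¹ * (h : G), ?_⟩
      have key : ∀ z : G, (h : G) * z * (h : G)⁻¹ = t * y * t⁻¹ →
          t⁻¹ * (h : G) * (t * x * t⁻¹ * z) * (t⁻¹ * (h : G))⁻¹ = x * y := fun z hz => by
        calc _ = t⁻¹ * (((h : G) * (t * x * t⁻¹) * (h : G)⁻¹) *
              ((h : G) * z * (h : G)⁻¹)) * t := by group
          _ = x * y := by rw [hhx, hz]; group
      exact key _ hh
    let Pm : Subgroup (Perm X) := (P : Subgroup G).map G.subtype
    obtain ⟨c, hc⟩ : ∃ c : ℝ, base (q + 1) = c := ⟨_, rfl⟩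
    have hc1 : 1 ≤ c := hc ▸ (base_bounds (q + 1)).1
    have hcd : c ≤ base q := hc ▸ hb2
    obtain ⟨ha1, ha2⟩ := arith q hqp
    rw [hc] at ha1 ha2
    obtain ⟨hor, -, hw⟩ := bounds hc1 hcd ha1 ha2 X Pm (P.2.map _)
    have hloc : ∀ x : (P : Subgroup G),
        ((bigClasses (q + 1) (Subgroup.centralizer ({(x : G)} : Set G))).ncard : ℝ) * c ≤
          c ^ cyc ((x : G) : Perm X) := by
      intro x
      let f := cycleHom G (x : G)
      haveI : Nonempty (Quotient (Perm.SameCycle.setoid ((x : G) : Perm X))) :=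
        ⟨Quotient.mk _ (Classical.arbitrary X)⟩
      have hpos : 1 ≤ cyc ((x : G) : Perm X) := Nat.card_pos
      have hle : cyc ((x : G) : Perm X) ≤ Nat.card X :=
        Nat.card_le_card_of_surjective (Quotient.mk _) Quotient.mk_surjective
      have hk := ih (q + 1) _ f.range (show cyc ((x : G) : Perm X) + 1 ≤ q + 1 + j by omega)
      rw [hc] at hk
      have hker : IsPGroup q f.rangeRestrict.ker := by
        rw [MonoidHom.ker_rangeRestrict]
        refine isPGroup_ker_cycleHom G _ q ?_
        obtain ⟨k, hk⟩ := P.2 x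
        obtain ⟨i, _, hi⟩ := (Nat.dvd_prime_pow hqp).1 (orderOf_dvd_of_pow_eq_one hk)
        exact ⟨i, by rw [← Subgroup.orderOf_coe] at hi; exact hi⟩
      have hnd : ∀ {H : Type} [Group H] (y : H),
          (∀ r : ℕ, r.Prime → r ∣ orderOf y → q + 1 ≤ r) → ¬ q ∣ orderOf y :=
        fun y hy hd => absurd (hy q hqp hd) (by omega)
      have hcard : (bigClasses (q + 1) (Subgroup.centralizer ({(x : G)} : Set G))).ncard ≤
          (bigClasses (q + 1) f.range).ncard := by
        refine Set.ncard_le_ncard_of_injOn (ConjClasses.map f.rangeRestrict) ?_ ?_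
        · rintro _ ⟨y, hy, rfl⟩
          exact ⟨f.rangeRestrict y,
            fun r hr hd => hy r hr (hd.trans (orderOf_map_dvd _ y)), rfl⟩
        · rintro _ ⟨y, hy, rfl⟩ _ ⟨y', hy', rfl⟩ e
          exact ConjClasses.mk_eq_mk_iff_isConj.2 (isConj_of_map f.rangeRestrict q hker
            (hnd y hy) (hnd y' hy') (ConjClasses.mk_eq_mk_iff_isConj.1 e)
            (MonoidHom.rangeRestrict_surjective _))
      calc _ ≤ c ^ (cyc ((x : G) : Perm X) - 1) * c :=
            mul_le_mul_of_nonneg_right (le_trans (by exact_mod_cast hcard) hk) (by linarith)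
        _ = _ := by rw [← pow_succ, Nat.sub_add_cancel hpos]
    have hsum : ((bigClasses q G).ncard : ℝ) * c ≤ ∑ᶠ g : Pm, c ^ cyc (g : Perm X) := by
      haveI : Finite G := inferInstance
      have h1 : (bigClasses q G).ncard ≤ ∑ x : (P : Subgroup G),
          (bigClasses (q + 1) (Subgroup.centralizer ({(x : G)} : Set G))).ncard := by
        refine (Set.ncard_le_ncard hcover).trans ?_
        refine (Finite.card_range_le F).trans_eq ?_
        rw [Nat.card_sigma]
        exact Finset.sum_congr rfl fun x _ => Nat.card_coe_set_eq _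
      calc _ ≤ (∑ x : (P : Subgroup G), ((bigClasses (q + 1)
            (Subgroup.centralizer ({(x : G)} : Set G))).ncard : ℝ)) * c :=
            mul_le_mul_of_nonneg_right (by exact_mod_cast h1) (by linarith)
        _ ≤ ∑ x : (P : Subgroup G), c ^ cyc ((x : G) : Perm X) := by
            rw [Finset.sum_mul]; exact Finset.sum_le_sum fun x _ => hloc x
        _ = _ := by
            rw [finsum_eq_sum_of_fintype]
            exact Fintype.sum_equiv
              ((P : Subgroup G).equivMapOfInjective G.subtype G.subtype_injective).toEquiv _ _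
              fun x => rfl
    have horb : 1 ≤ orb Pm := Nat.card_pos_iff.2
      ⟨⟨Quotient.mk _ (Classical.arbitrary X)⟩, inferInstance⟩
    obtain ⟨r, hr⟩ : ∃ r, orb Pm = r + 1 := ⟨orb Pm - 1, by omega⟩
    rw [hr] at hw hor
    have hfin : c ^ (r + 1) * base q ^ (Nat.card X - (r + 1)) ≤
        base q ^ (Nat.card X - 1) * c := by
      calc c ^ (r + 1) * base q ^ (Nat.card X - (r + 1))
          = c ^ r * base q ^ (Nat.card X - (r + 1)) * c := by ring
        _ ≤ base q ^ r * base q ^ (Nat.card X - (r + 1)) * c := by gcongr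
        _ = base q ^ (Nat.card X - 1) * c := by
            rw [← pow_add, show r + (Nat.card X - (r + 1)) = Nat.card X - 1 by omega]
    exact le_of_mul_le_mul_right (hsum.trans (hw.trans hfin)) (by linarith)

/-- A permutation group of degree `m ≥ 1` has at most `5 ^ (m - 1)` conjugacy classes. -/
theorem card_conjClasses_le (X : Type) [Finite X] [Nonempty X] (G : Subgroup (Perm X)) :
    Nat.card (ConjClasses G) ≤ 5 ^ (Nat.card X - 1) := by
  have h := ncard_bigClasses_le (Nat.card X) 2 X G (by omega)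
  have hall : bigClasses 2 G = Set.univ := Set.eq_univ_of_forall fun C => by
    induction C using Quotient.inductionOn with | h g =>
    exact ⟨g, fun r hr _ => hr.two_le, rfl⟩
  rw [hall, Set.ncard_univ, show base 2 = 5 by norm_num [base]] at h
  exact_mod_cast h

end Cfsg.Agent.H3.ClassNumber
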