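import Mathlib

/-!
# Cycle weights of `p`-groups of permutations

For a `p`-group `P` of permutations of `X` with `r` orbits and `|X| = m` we bound the weighted
sum `∑ c ^ (number of cycles)` by `c ^ r * d ^ (m - r)` and the order by `2 ^ (m - r)`.
-/

set_option autoImplicit false

open Equiv

namespace Cfsg.Agent.H3.ClassNumber

/-- The number of cycles of a permutation, fixed points included. -/
noncomputable def cyc {X : Type*} (g : Perm X) : ℕ :=
  Nat.card (Quotient (Perm.SameCycle.setoid g))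

/-- The number of orbits of a permutation group. -/
noncomputable def orb {X : Type*} (P : Subgroup (Perm X)) : ℕ :=
  Nat.card (MulAction.orbitRel.Quotient P X)

theorem sameCycle_setoid_iff {X : Type*} (g : Perm X) (a b : X) :
    (Perm.SameCycle.setoid g).r a b ↔ g.SameCycle a b := Iff.rfl

theorem orbitRel_iff {X : Type*} (P : Subgroup (Perm X)) (a b : X) :
    (MulAction.orbitRel P X).r a b ↔ ∃ g ∈ P, g b = a :=
  ⟨fun ⟨g, hg⟩ => ⟨g, g.2, hg⟩, fun ⟨g, hg, h⟩ => ⟨⟨g, hg⟩, h⟩⟩

theorem card_quotient_split {X : Type*} [Finite X] (q : X → Prop) (s : Setoid X)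
    (hs : ∀ a b, s.r a b → (q a ↔ q b)) (sY : Setoid {x // q x}) (sZ : Setoid {x // ¬ q x})
    (hY : ∀ a b, sY.r a b ↔ s.r a b) (hZ : ∀ a b, sZ.r a b ↔ s.r a b) :
    Nat.card (Quotient s) = Nat.card (Quotient sY) + Nat.card (Quotient sZ) := by
  classical
  rw [← Nat.card_sum]
  refine (Nat.card_congr (Equiv.ofBijective
    (Sum.elim
      (Quotient.lift (fun y : {x // q x} => Quotient.mk s y.1)
        fun a b h => Quotient.sound ((hY a b).1 h))
      (Quotient.lift (fun y : {x // ¬ q x} => Quotient.mk s y.1)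
        fun a b h => Quotient.sound ((hZ a b).1 h))) ⟨?_, ?_⟩)).symm
  · rintro (a | a) (b | b) h
    · induction a using Quotient.inductionOn with | h a =>
      induction b using Quotient.inductionOn with | h b =>
      exact congrArg Sum.inl (Quotient.sound ((hY a b).2 (Quotient.exact h)))
    · induction a using Quotient.inductionOn with | h a =>
      induction b using Quotient.inductionOn with | h b =>
      exact (b.2 ((hs _ _ (Quotient.exact h)).1 a.2)).elim
    · induction a using Quotient.inductionOn with | h a =>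
      induction b using Quotient.inductionOn with | h b =>
      exact (a.2 ((hs _ _ (Quotient.exact h)).2 b.2)).elim
    · induction a using Quotient.inductionOn with | h a =>
      induction b using Quotient.inductionOn with | h b =>
      exact congrArg Sum.inr (Quotient.sound ((hZ a b).2 (Quotient.exact h)))
  · intro t
    induction t using Quotient.inductionOn with | h x =>
    by_cases hx : q x
    · exact ⟨Sum.inl (Quotient.mk sY ⟨x, hx⟩), rfl⟩
    · exact ⟨Sum.inr (Quotient.mk sZ ⟨x, hx⟩), rfl⟩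

section Restrict

variable {X : Type*} (P : Subgroup (Perm X)) (q : X → Prop)

/-- Restriction of a permutation group to an invariant set of points. -/
def restrHom (hq : ∀ g ∈ P, ∀ x, q (g x) ↔ q x) : P →* Perm {x // q x} where
  toFun g := (g : Perm X).subtypePerm (hq g g.2)
  map_one' := by ext; rfl
  map_mul' _ _ := by ext; rfl

theorem restrHom_apply (hq : ∀ g ∈ P, ∀ x, q (g x) ↔ q x) (g : P) (y : {x // q x}) :
    (restrHom P q hq g y : X) = (g : Perm X) y := rfl

theorem sameCycle_restrHom (hq : ∀ g ∈ P, ∀ x, q (g x) ↔ q x) (g : P) (a b : {x // q x}) :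
    (restrHom P q hq g).SameCycle a b ↔ (g : Perm X).SameCycle a b :=
  Perm.sameCycle_subtypePerm (h := hq g g.2)

theorem orbitRel_restrHom (hq : ∀ g ∈ P, ∀ x, q (g x) ↔ q x) (a b : {x // q x}) :
    (MulAction.orbitRel (restrHom P q hq).range {x // q x}).r a b ↔
      (MulAction.orbitRel P X).r a b := by
  rw [orbitRel_iff, orbitRel_iff]
  constructor
  · rintro ⟨g, ⟨g₀, rfl⟩, h⟩
    exact ⟨g₀, g₀.2, by rw [← restrHom_apply P q hq, h]⟩
  · rintro ⟨g, hg, h⟩
    exact ⟨_, ⟨⟨g, hg⟩, rfl⟩, Subtype.ext h⟩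

theorem orb_split [Finite X] (hq : ∀ g ∈ P, ∀ x, q (g x) ↔ q x)
    (hq' : ∀ g ∈ P, ∀ x, ¬ q (g x) ↔ ¬ q x) :
    orb P = orb (restrHom P q hq).range + orb (restrHom P (fun x => ¬ q x) hq').range :=
  card_quotient_split q _
    (fun a b h => by obtain ⟨g, hg, rfl⟩ := (orbitRel_iff P a b).1 h; exact hq g hg b) _ _
    (orbitRel_restrHom P q hq) (orbitRel_restrHom P _ hq')

theorem cyc_split [Finite X] (hq : ∀ g ∈ P, ∀ x, q (g x) ↔ q x)
    (hq' : ∀ g ∈ P, ∀ x, ¬ q (g x) ↔ ¬ q x) (g : P) :
    cyc (g : Perm X) = cyc (restrHom P q hq g) + cyc (restrHom P (fun x => ¬ q x) hq' g) := by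
  refine card_quotient_split q _ (fun a b h => ?_) _ _
    (sameCycle_restrHom P q hq g) (sameCycle_restrHom P _ hq' g)
  obtain ⟨i, rfl⟩ := h
  exact (hq _ (zpow_mem g.2 i) a).symm

theorem restrHom_pair_injective (hq : ∀ g ∈ P, ∀ x, q (g x) ↔ q x)
    (hq' : ∀ g ∈ P, ∀ x, ¬ q (g x) ↔ ¬ q x) :
    Function.Injective fun g : P => ((restrHom P q hq).rangeRestrict g,
      (restrHom P (fun x => ¬ q x) hq').rangeRestrict g) := by
  intro g h e
  obtain ⟨e1, e2⟩ := Prod.ext_iff.1 e
  replace e1 := congrArg Subtype.val e1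
  replace e2 := congrArg Subtype.val e2
  refine Subtype.ext (Equiv.ext fun x => ?_)
  by_cases hx : q x
  · exact congrArg Subtype.val (Equiv.ext_iff.1 e1 ⟨x, hx⟩)
  · exact congrArg Subtype.val (Equiv.ext_iff.1 e2 ⟨x, hx⟩)

end Restrict


/-- The two bounds for a group. -/
def Bounds (c d : ℝ) (X : Type) [Finite X] (P : Subgroup (Perm X)) : Prop :=
  orb P ≤ Nat.card X ∧ Nat.card P ≤ 2 ^ (Nat.card X - orb P) ∧
    ∑ᶠ g : P, c ^ cyc (g : Perm X) ≤ c ^ orb P * d ^ (Nat.card X - orb P)

theorem bounds_split {c d : ℝ} (hc : 0 ≤ c) {X : Type} [Finite X] (P : Subgroup (Perm X))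
    (q : X → Prop) (hq : ∀ g ∈ P, ∀ x, q (g x) ↔ q x) (hq' : ∀ g ∈ P, ∀ x, ¬ q (g x) ↔ ¬ q x)
    (h₁ : Bounds c d _ (restrHom P q hq).range)
    (h₂ : Bounds c d _ (restrHom P (fun x => ¬ q x) hq').range) : Bounds c d X P := by
  classical
  haveI := Fintype.ofFinite X
  have hX : Nat.card X = Nat.card {x // q x} + Nat.card {x // ¬ q x} := by
    rw [← Nat.card_sum]
    exact Nat.card_congr (Equiv.sumCompl q).symm
  have hr := orb_split P q hq hq'
  obtain ⟨a1, b1, c1⟩ := h₁
  obtain ⟨a2, b2, c2⟩ := h₂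
  have hsub : Nat.card X - orb P = (Nat.card {x // q x} - orb (restrHom P q hq).range) +
      (Nat.card {x // ¬ q x} - orb (restrHom P (fun x => ¬ q x) hq').range) := by omega
  have hinj := restrHom_pair_injective P q hq hq'
  refine ⟨by omega, ?_, ?_⟩
  · rw [hsub, pow_add]
    refine le_trans ?_ (Nat.mul_le_mul b1 b2)
    rw [← Nat.card_prod]
    exact Nat.card_le_card_of_injective _ hinj
  · rw [hsub, hr, pow_add, pow_add, mul_mul_mul_comm]
    rw [finsum_eq_sum_of_fintype] at c1 c2 ⊢
    refine le_trans ?_ (mul_le_mul c1 c2 (Finset.sum_nonneg fun g _ => pow_nonneg hc _)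
      (le_trans (Finset.sum_nonneg fun g _ => pow_nonneg hc _) c1))
    rw [Finset.sum_mul_sum, ← Finset.sum_product', Finset.univ_product_univ]
    have : ∀ g : P, c ^ cyc (g : Perm X) = c ^ cyc ((restrHom P q hq).rangeRestrict g).1 *
        c ^ cyc ((restrHom P (fun x => ¬ q x) hq').rangeRestrict g).1 := fun g => by
      rw [← pow_add, cyc_split P q hq hq' g]
      rfl
    simp only [this]
    rw [← Finset.sum_image (g := fun g : P => ((restrHom P q hq).rangeRestrict g,
      (restrHom P (fun x => ¬ q x) hq').rangeRestrict g))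
      (f := fun u => c ^ cyc u.1.1 * c ^ cyc u.2.1) hinj.injOn]
    exact Finset.sum_le_sum_of_subset_of_nonneg (Finset.subset_univ _)
      fun u _ _ => mul_nonneg (pow_nonneg hc _) (pow_nonneg hc _)

theorem two_orbits {X : Type} [Finite X] (P : Subgroup (Perm X)) (h : 2 ≤ orb P) :
    ∃ q : X → Prop, (∀ g ∈ P, ∀ x, q (g x) ↔ q x) ∧ (∀ g ∈ P, ∀ x, ¬ q (g x) ↔ ¬ q x) ∧
      Nat.card {x // q x} < Nat.card X ∧ Nat.card {x // ¬ q x} < Nat.card X := by
  classical
  have : Nontrivial (MulAction.orbitRel.Quotient P X) := Finite.one_lt_card_iff_nontrivial.1 h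
  obtain ⟨u, v, huv⟩ := this.exists_pair_ne
  induction u using Quotient.inductionOn with | h a =>
  induction v using Quotient.inductionOn with | h b =>
  have key : ∀ g ∈ P, ∀ x, (MulAction.orbitRel P X).r (g x) a ↔ (MulAction.orbitRel P X).r x a :=
    fun g hg x => by
      have h1 : (MulAction.orbitRel P X).r (g x) x := (orbitRel_iff P _ _).2 ⟨g, hg, rfl⟩
      exact ⟨fun h2 => Setoid.trans' _ (Setoid.symm' _ h1) h2, fun h2 => Setoid.trans' _ h1 h2⟩
  refine ⟨fun x => (MulAction.orbitRel P X).r x a, key, fun g hg x => not_congr (key g hg x),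
    ?_, ?_⟩
  · exact Finite.card_subtype_lt (x := b) fun hb => huv (Quotient.sound hb).symm
  · exact Finite.card_subtype_lt (x := a) (not_not.2 (Setoid.refl' _ a))

theorem bounds {p : ℕ} [hp : Fact p.Prime] {c d : ℝ} (hc : 1 ≤ c) (hcd : c ≤ d)
    (h1 : c ^ p + (p - 1 : ℕ) * c ≤ c * d ^ (p - 1)) (h2 : (2 : ℝ) ^ p * c ≤ d ^ p) :
    ∀ (X : Type) [Finite X] (P : Subgroup (Perm X)), IsPGroup p P → Bounds c d X P := by
  intro X _ P hP
  obtain ⟨m, hm⟩ : ∃ m, Nat.card X = m := ⟨_, rfl⟩
  induction m using Nat.strong_induction_on generalizing X with | _ m IH =>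
  have hc0 : (0 : ℝ) ≤ c := zero_le_one.trans hc
  classical
  haveI := Fintype.ofFinite X
  have split : ∀ Q : Subgroup (Perm X), IsPGroup p Q → 2 ≤ orb Q → Bounds c d X Q := by
    intro Q hQ h
    obtain ⟨q, hq, hq', l1, l2⟩ := two_orbits Q h
    exact bounds_split hc0 Q q hq hq'
      (IH _ (hm ▸ l1) _ _ (hQ.of_surjective _ (MonoidHom.rangeRestrict_surjective _)) rfl)
      (IH _ (hm ▸ l2) _ _ (hQ.of_surjective _ (MonoidHom.rangeRestrict_surjective _)) rfl)
  by_cases h : 2 ≤ orb P
  · exact split P hP h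
  by_cases hsub : Subsingleton X
  · haveI := hsub
    have hPc : Nat.card P = 1 := Nat.card_eq_one_iff_unique.2
      ⟨⟨fun g g' => Subtype.ext (Equiv.ext fun x => Subsingleton.elim _ _)⟩, ⟨1⟩⟩
    have hor : orb P = Nat.card X := by
      refine (Nat.card_congr (Equiv.ofBijective
        (fun x : X => (Quotient.mk (MulAction.orbitRel P X) x)) ⟨?_, ?_⟩)).symm
      · intro a b _; exact Subsingleton.elim a b
      · intro t; exact Quotient.exists_rep t
    have hcy : ∀ g : P, cyc (g : Perm X) = Nat.card X := fun g => by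
      refine (Nat.card_congr (Equiv.ofBijective
        (fun x : X => (Quotient.mk (Perm.SameCycle.setoid (g : Perm X)) x)) ⟨?_, ?_⟩)).symm
      · intro a b _; exact Subsingleton.elim a b
      · intro t; exact Quotient.exists_rep t
    refine ⟨hor.le, by rw [hPc]; exact Nat.one_le_two_pow, ?_⟩
    rw [finsum_eq_sum_of_fintype, hor, Nat.sub_self, pow_zero, mul_one]
    simp only [hcy, Finset.sum_const, nsmul_eq_mul, Finset.card_univ, ← Nat.card_eq_fintype_card,
      hPc, Nat.cast_one, one_mul, le_refl]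

  -- transitive
  haveI hXne : Nonempty X := by
    by_contra hX
    haveI := not_nonempty_iff.1 hX
    exact hsub inferInstance
  obtain ⟨a⟩ := hXne
  have horb : orb P = 1 := by
    have : 0 < orb P := Nat.card_pos_iff.2 ⟨⟨Quotient.mk _ a⟩, inferInstance⟩
    omega
  have htr : ∀ x, ∃ g ∈ P, g a = x := fun x => by
    have := (Nat.card_eq_one_iff_unique.1 horb).1
    exact (orbitRel_iff P x a).1
      (Quotient.exact (this.elim (Quotient.mk _ x) (Quotient.mk _ a)))
  obtain ⟨b, hb⟩ : ∃ b, b ≠ a := by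
    by_contra hne
    push_neg at hne
    exact hsub ⟨fun u v => (hne u).trans (hne v).symm⟩
  have hstab : MulAction.stabilizer P a ≠ ⊤ := fun e => by
    obtain ⟨g, hg, hga⟩ := htr b
    exact hb (hga.symm.trans ((e ▸ Subgroup.mem_top (⟨g, hg⟩ : P) :
      (⟨g, hg⟩ : P) ∈ MulAction.stabilizer P a)))
  haveI : Group.IsNilpotent P := hP.isNilpotent
  obtain ⟨M, hM, hle⟩ := (eq_top_or_exists_le_coatom (MulAction.stabilizer P a)).resolve_left hstab
  haveI : M.Normal := Subgroup.NormalizerCondition.normal_of_coatom M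
    normalizerCondition_of_isNilpotent hM
  have hidx : M.index = p := by
    haveI : IsSimpleGroup (P ⧸ M) := by
      refine @IsSimpleGroup.mk _ _ ?_ ?_
      · exact QuotientGroup.nontrivial_iff.2 hM.1
      · intro H _
        rcases hM.le_iff.1 (show M ≤ H.comap (QuotientGroup.mk' M) from fun x hx => by
          simp [(QuotientGroup.eq_one_iff x).2 hx]) with e | e
        · exact Or.inr (Subgroup.comap_injective (QuotientGroup.mk'_surjective M)
            (e.trans (Subgroup.comap_top _).symm))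
        · exact Or.inl (Subgroup.comap_injective (QuotientGroup.mk'_surjective M)
            (e.trans (by rw [MonoidHom.comap_bot, QuotientGroup.ker_mk'])))
    haveI : Group.IsNilpotent (P ⧸ M) := (hP.to_quotient M).isNilpotent
    have hab : IsMulCommutative (P ⧸ M) := by
      rcases (inferInstance : (Subgroup.center (P ⧸ M)).Normal).eq_bot_or_eq_top with e | e
      · haveI := (hP.to_quotient M).center_nontrivial
        exact absurd e ((Subgroup.nontrivial_iff_ne_bot _).1 this)
      · exact ⟨⟨fun u v => Subgroup.mem_center_iff.1 (e ▸ Subgroup.mem_top v) u⟩⟩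
    letI : CommGroup (P ⧸ M) := { (inferInstance : Group (P ⧸ M)) with
      mul_comm := fun u v => hab.1.1 u v }
    have hpr : (Nat.card (P ⧸ M)).Prime := IsSimpleGroup.prime_card
    obtain ⟨k, hk⟩ := (hP.to_quotient M).exists_card_eq
    rw [Subgroup.index_eq_card, hk]
    rw [hk] at hpr
    rw [hpr.eq_one_of_pow, pow_one]
  let M' : Subgroup (Perm X) := M.map P.subtype
  have hmem : ∀ (g : Perm X), g ∈ M' ↔ ∃ h : g ∈ P, (⟨g, h⟩ : P) ∈ M := fun g => by
    constructor
    · rintro ⟨u, hu, rfl⟩; exact ⟨u.2, hu⟩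
    · rintro ⟨h, hu⟩; exact ⟨⟨g, h⟩, hu, rfl⟩
  have hM' : IsPGroup p M' :=
    (hP.to_subgroup M).map _
  have horbM : orb M' = p := by
    rw [← hidx, Subgroup.index_eq_card]
    refine (Nat.card_congr (Equiv.ofBijective
      (Quotient.lift (fun g : P => Quotient.mk (MulAction.orbitRel M' X) ((g : Perm X) a))
        ?_) ⟨?_, ?_⟩)).symm
    · intro g h e
      have e' : g⁻¹ * h ∈ M := QuotientGroup.leftRel_apply.1 e
      have := Subgroup.Normal.conj_mem inferInstance _ e' g
      refine Quotient.sound ((orbitRel_iff M' _ _).2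
        ⟨((g * (g⁻¹ * h) * g⁻¹)⁻¹ : P), (hmem _).2 ⟨SetLike.coe_mem _, M.inv_mem this⟩, ?_⟩)
      simp [mul_assoc]
    · intro u v
      induction u using Quotient.inductionOn with | h g =>
      induction v using Quotient.inductionOn with | h h =>
      intro e
      obtain ⟨k, hk, hka⟩ := (orbitRel_iff M' _ _).1 (Quotient.exact e)
      obtain ⟨hkP, hkM⟩ := (hmem k).1 hk
      have : g⁻¹ * ⟨k, hkP⟩ * h ∈ MulAction.stabilizer P a := by
        change ((g : Perm X)⁻¹ * k * (h : Perm X)) a = a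
        rw [Perm.mul_apply, Perm.mul_apply, hka]
        simp
      refine Quotient.sound (QuotientGroup.leftRel_apply.2 ?_)
      have e2 : g⁻¹ * h = (g⁻¹ * ⟨k, hkP⟩ * h) * (h⁻¹ * (⟨k, hkP⟩ : P)⁻¹ * h) := by group
      rw [e2]
      exact mul_mem (hle this) (Subgroup.Normal.conj_mem' inferInstance _ (M.inv_mem hkM) h)
    · intro t
      induction t using Quotient.inductionOn with | h x =>
      obtain ⟨g, hg, rfl⟩ := htr x
      exact ⟨QuotientGroup.mk (⟨g, hg⟩ : P), rfl⟩
  obtain ⟨ha', hb', hc'⟩ := split M' hM' (horbM ▸ hp.out.two_le)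
  rw [horbM] at ha' hb' hc'
  have hcardP : Nat.card P = p * Nat.card M' := by
    rw [← M.index_mul_card, hidx, Subgroup.card_map_of_injective P.subtype_injective]
  -- cycles outside `M`
  have hout : ∀ g : P, g ∉ M → cyc (g : Perm X) * p ≤ Nat.card X := by
    intro g hg
    have hord : orderOf (g : P ⧸ M) = p := by
      refine orderOf_eq_prime ?_ (fun e => hg ((QuotientGroup.eq_one_iff g).1 e))
      rw [← hidx, Subgroup.index_eq_card]
      exact pow_card_eq_one'
    have key : ∀ (i : ℤ) (x : X), ((g : Perm X) ^ i) x = x → (p : ℤ) ∣ i := by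
      intro i x e
      obtain ⟨u, hu, rfl⟩ := htr x
      have : (⟨u, hu⟩ : P)⁻¹ * g ^ i * ⟨u, hu⟩ ∈ MulAction.stabilizer P a := by
        change ((u⁻¹ * (g : Perm X) ^ i * u) : Perm X) a = a
        rw [Perm.mul_apply, Perm.mul_apply, e]
        simp
      have h' : g ^ i ∈ M := by
        have := Subgroup.Normal.conj_mem (inferInstance : M.Normal) _ (hle this) ⟨u, hu⟩
        simpa [mul_assoc] using this
      rw [← hord]
      exact orderOf_dvd_iff_zpow_eq_one.2
        (by rw [← QuotientGroup.mk_zpow]; exact (QuotientGroup.eq_one_iff _).2 h')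
    let f : Quotient (Perm.SameCycle.setoid (g : Perm X)) × Fin p → X :=
      fun u => ((g : Perm X) ^ ((u.2 : ℕ) : ℤ)) u.1.out
    have hf : Function.Injective f := by
      rintro ⟨O, i⟩ ⟨O', j⟩ e
      change ((g : Perm X) ^ ((i : ℕ) : ℤ)) O.out = ((g : Perm X) ^ ((j : ℕ) : ℤ)) O'.out at e
      have e' : ((g : Perm X) ^ (((i : ℕ) : ℤ) - j)) O.out = O'.out := by
        rw [sub_eq_neg_add, zpow_add, Perm.mul_apply, e, zpow_neg, ← Perm.mul_apply, inv_mul_cancel, Perm.one_apply]
      have hO : O = O' := by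
        rw [← O.out_eq, ← O'.out_eq]
        exact Quotient.sound ⟨_, e'⟩
      subst hO
      have hd := key _ _ e'
      have : (i : ℕ) = j := by
        by_contra hne
        have := Int.eq_zero_of_dvd_of_natAbs_lt_natAbs hd (by
          have := i.2; have := j.2; omega)
        omega
      exact Prod.ext rfl (Fin.ext this)
    have := Nat.card_le_card_of_injective f hf
    rwa [Nat.card_prod, Nat.card_fin] at this
  obtain ⟨N, hN⟩ : ∃ N, Nat.card X = p * N := by
    refine ⟨Nat.card X / p, ?_⟩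
    have horbit : Nat.card X = (MulAction.stabilizer P a).index := by
      rw [MulAction.index_stabilizer]
      have : MulAction.orbit P a = Set.univ := Set.eq_univ_of_forall fun x => by
        obtain ⟨g, hg, rfl⟩ := htr x
        exact ⟨⟨g, hg⟩, rfl⟩
      rw [this, Set.ncard_univ]
    have hdvd : p ∣ Nat.card X := by
      rw [horbit, ← hidx]
      exact Subgroup.index_dvd_of_le hle
    rw [Nat.mul_div_cancel' hdvd]
  have hN1 : 1 ≤ N := by
    rcases Nat.eq_zero_or_pos N with e | e
    · have : 0 < Nat.card X := Nat.card_pos_iff.2 ⟨⟨a⟩, inferInstance⟩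
      rw [hN, e, mul_zero] at this; omega
    · exact e
  have hp1 := hp.out.two_le
  obtain ⟨n, rfl⟩ : ∃ n, N = n + 1 := ⟨N - 1, by omega⟩
  have hXp : Nat.card X - p = p * n := by rw [hN]; simp [mul_add]
  have hX1 : Nat.card X - 1 = p * n + (p - 1) := by rw [hN, mul_add, mul_one]; omega
  rw [hXp] at hb' hc'
  refine ⟨by rw [horb]; omega, ?_, ?_⟩
  · rw [horb, hX1, hcardP, pow_add, mul_comm (2 ^ (p * n))]
    refine Nat.mul_le_mul ?_ hb'
    have := (p - 1).lt_two_pow_self
    omega
  rw [horb, hX1, pow_one, finsum_eq_sum_of_fintype]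
  rw [finsum_eq_sum_of_fintype] at hc'
  have hsplit := Finset.sum_filter_add_sum_filter_not (Finset.univ : Finset P) (· ∈ M)
    (fun g : P => c ^ cyc (g : Perm X))
  rw [← hsplit]
  have hin : ∑ g ∈ Finset.univ.filter (fun g : P => g ∈ M), c ^ cyc (g : Perm X) =
      ∑ g : M', c ^ cyc (g : Perm X) := by
    refine Finset.sum_bij (fun g hg => ⟨(g : Perm X), (hmem _).2 ⟨g.2, (Finset.mem_filter.1 hg).2⟩⟩)
      (fun _ _ => Finset.mem_univ _) (fun g _ g' _ e => Subtype.ext (congrArg (fun t : M' => (t : Perm X)) e))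
      (fun t _ => ?_) (fun _ _ => rfl)
    obtain ⟨h, hu⟩ := (hmem _).1 t.2
    exact ⟨⟨t, h⟩, by simp [hu], rfl⟩
  have hcnt : ((Finset.univ.filter (fun g : P => g ∉ M)).card : ℝ) ≤
      (p - 1 : ℕ) * (2 : ℝ) ^ (p * n) := by
    have e1 : (Finset.univ.filter (fun g : P => g ∉ M)).card +
        (Finset.univ.filter (fun g : P => g ∈ M)).card = Nat.card P := by
      rw [add_comm, Finset.card_filter_add_card_filter_not, Finset.card_univ,
        Nat.card_eq_fintype_card]
    have e2 : (Finset.univ.filter (fun g : P => g ∈ M)).card = Nat.card M := by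
      rw [Nat.card_eq_fintype_card, Fintype.card_subtype]
    rw [e2, hcardP, Subgroup.card_map_of_injective P.subtype_injective] at e1
    rw [Subgroup.card_map_of_injective P.subtype_injective] at hb'
    have : (Finset.univ.filter (fun g : P => g ∉ M)).card ≤ (p - 1) * 2 ^ (p * n) := by
      have : p * Nat.card M = (p - 1) * Nat.card M + Nat.card M := by
        rw [← Nat.succ_mul]; congr 1; omega
      have := Nat.mul_le_mul_left (p - 1) hb'
      omega
    exact_mod_cast this
  have houtsum : ∑ g ∈ Finset.univ.filter (fun g : P => g ∉ M), c ^ cyc (g : Perm X) ≤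
      (p - 1 : ℕ) * (2 : ℝ) ^ (p * n) * c ^ (n + 1) := by
    refine (Finset.sum_le_card_nsmul _ _ (c ^ (n + 1)) fun g hg => ?_).trans ?_
    · refine pow_le_pow_right₀ hc ?_
      have := hout g (Finset.mem_filter.1 hg).2
      rw [hN, mul_comm p] at this
      exact Nat.le_of_mul_le_mul_right this (by omega)
    · rw [nsmul_eq_mul]
      exact mul_le_mul_of_nonneg_right hcnt (pow_nonneg hc0 _)
  rw [hin]
  refine le_trans (add_le_add hc' houtsum) ?_
  have h3 : (2 : ℝ) ^ (p * n) * c ^ n ≤ d ^ (p * n) := by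
    rw [pow_mul, pow_mul, ← mul_pow]
    exact pow_le_pow_left₀ (by positivity) h2 n
  have hd0 : 0 ≤ d ^ (p * n) := pow_nonneg (hc0.trans hcd) _
  calc c ^ p * d ^ (p * n) + ((p - 1 : ℕ) : ℝ) * 2 ^ (p * n) * c ^ (n + 1)
      = c ^ p * d ^ (p * n) + ((p - 1 : ℕ) : ℝ) * c * (2 ^ (p * n) * c ^ n) := by ring
    _ ≤ c ^ p * d ^ (p * n) + ((p - 1 : ℕ) : ℝ) * c * d ^ (p * n) := by gcongr
    _ = (c ^ p + ((p - 1 : ℕ) : ℝ) * c) * d ^ (p * n) := by ring
    _ ≤ c * d ^ (p - 1) * d ^ (p * n) := mul_le_mul_of_nonneg_right h1 hd0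
    _ = c * d ^ (p * n + (p - 1)) := by ring

end Cfsg.Agent.H3.ClassNumber
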